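import Groth.Agent.FBcIsoLib.Zero
import Groth.Agent.CohLib.InjModule
import Groth.Agent.FormalCohLib.PushPull
import Groth.Prelude.Def_FSch6

/-!
# The base change morphism to the completion is an isomorphism
-/

set_option autoImplicit false
set_option linter.style.haveILetI false
set_option linter.unusedSectionVars false
set_option maxHeartbeats 1600000
set_option synthInstance.maxHeartbeats 80000

universe u

open CategoryTheory CategoryTheory.Limits AlgebraicGeometry TopologicalSpace Opposite FSch CategoryTheory.Abelian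
open FRpushLib (toAbS rm pre th rG rT prT theta)
open FModLib (MSec RSec)
open QCohLib (HU h0 h0_comp)
open FRpushCmplLib (cφ cL cQ cη cF cP cPr cH cLim hlocX hlocY sqP castU pushU pre_eq RhoSpec)

noncomputable section

namespace FBcIsoLib

variable {X Y : Scheme.{u}} [IsNoetherian X] [IsNoetherian Y] (f : X ⟶ Y) [IsProper f] (𝓘 : Y.IdealSheafData)
  (𝓚 : X.IdealSheafData) (h𝓚 : 𝓚 = 𝓘.comap f) (hpc : PowCompat f 𝓚 𝓘)
  (hX : (completionAlong X 𝓚).IsFormal) (hY : (completionAlong Y 𝓘).IsFormal)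
  [HasInjectiveResolutions X.Modules] [HasInjectiveResolutions (ModF (completionAlong X 𝓚) hX)]
  (F : X.Modules) (hF : Coh.IsCoh F)

/-- The completion morphism downstairs. -/
abbrev jY := toSchemeMor (completionAlong Y 𝓘) hY (completionToX Y 𝓘) (completionToX_comm Y 𝓘)

/-- The completion morphism upstairs. -/
abbrev iX := toSchemeMor (completionAlong X 𝓚) hX (completionToX X 𝓚) (completionToX_comm X 𝓚)

/-- The base change morphism. -/
abbrev bc := schBcMap (cφ f 𝓘 𝓚 hpc) hX hY f (completionToX X 𝓚) (completionToX_comm X 𝓚)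
  (completionToX Y 𝓘) (completionToX_comm Y 𝓘) (completionMap_sq f 𝓚 𝓘 hpc) F

/-- From the direct image along the completed morphism to its zeroth derived functor. -/
abbrev k0 (M : ModF (completionAlong X 𝓚) hX) :
    (pushF (cφ f 𝓘 𝓚 hpc) hX hY).obj M ⟶ (RpushF (cφ f 𝓘 𝓚 hpc) hX hY 0).obj M :=
  toR0 (OX := (completionAlong X 𝓚).Osh hX) (OY := (completionAlong Y 𝓘).Osh hY)
    ((cφ f 𝓘 𝓚 hpc : Hom _ _).app 0).base (Hom.sharp (cφ f 𝓘 𝓚 hpc) hX hY) M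

/-- The same for the schemes. -/
abbrev kf : (Scheme.Modules.pushforward f).obj F ⟶ (Coh.Rpush f 0).obj F :=
  toR0 (OX := X.sheaf) (OY := Y.sheaf) f.base ⟨f.c⟩ F

/-- The base change morphism on the generators. -/
theorem bc_unit (W : Y.Opens) (s : MSec F (pre f.base W)) :
    (bc f 𝓘 𝓚 hpc hX hY F).val.app (op (pre (completionToX Y 𝓘 0).base W))
        (((jY 𝓘 hY).adj.unit.app ((Scheme.Modules.pushforward f).obj F)).val.app (op W) s) =
      (cF 𝓚 hX F).val.map (homOfLE (pre_eq f 𝓘 𝓚 hpc W).le).op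
        (((iX 𝓚 hX).adj.unit.app F).val.app (op (pre f.base W)) s) := by
  have h := ModSite.RMor.bcMap_transpose (schSharp_sq (cφ f 𝓘 𝓚 hpc) hX hY f (completionToX X 𝓚)
    (completionToX_comm X 𝓚) (completionToX Y 𝓘) (completionToX_comm Y 𝓘) (completionMap_sq f 𝓚 𝓘 hpc)) F
  have h' : (jY 𝓘 hY).adj.unit.app ((Scheme.Modules.pushforward f).obj F) ≫
      (jY 𝓘 hY).push.map (bc f 𝓘 𝓚 hpc hX hY F) = _ := ((jY 𝓘 hY).adj.homEquiv_unit _ _ _).symm.trans h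
  refine (congr($(congrArg (fun a : (Scheme.Modules.pushforward f).obj F ⟶
      (jY 𝓘 hY).push.obj ((pushF (cφ f 𝓘 𝓚 hpc) hX hY).obj (cF 𝓚 hX F)) => a.val.app (op W)) h') s)).trans ?_
  exact congr($(congrArg (cF 𝓚 hX F).val.presheaf.map (Subsingleton.elim _ _))
    (((iX 𝓚 hX).adj.unit.app F).val.app (op (pre f.base W)) s))

include h𝓚 hF in
/-- **The base change morphism is an isomorphism.** -/
theorem isIso_bc : IsIso (bc f 𝓘 𝓚 hpc hX hY F) := by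
  obtain ⟨ρ, hρ⟩ := FRpushCmplLib.exists_rho f 𝓘 𝓚 h𝓚 hpc hX hY F hF 0
  haveI := FRpushCmplLib.isIso_rho f 𝓘 𝓚 h𝓚 hpc hX hY F hF 0 ρ hρ
  have hφ := FRpushCmplLib.isProperHom_cφ f 𝓘 𝓚 h𝓚 hpc
  have h𝔉 := FRpushCmplLib.isCohF_cF 𝓚 hX F hF
  obtain ⟨θ, hθ⟩ := FRpushLib.exists_iso_limit (φ := cφ f 𝓘 𝓚 hpc) (hloc := hlocX 𝓚 hX) (h𝔜 := hY) (q := 0) h𝔉
    (FRpushLib.levAc (hlocX 𝓚 hX) (hlocY 𝓘 hY) hφ (cF 𝓚 hX F) h𝔉)
    (FRpushLib.levStable (cφ f 𝓘 𝓚 hpc) (hlocX 𝓚 hX) (hlocY 𝓘 hY) hφ (cF 𝓚 hX F) h𝔉)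
  have hkf : IsIso (kf f F) := isIso_toR0 _ _ _
  haveI : IsIso (k0 f 𝓘 𝓚 hpc hX hY (cF 𝓚 hX F)) := isIso_toR0 _ _ _
  let j := jY 𝓘 hY
  have key : bc f 𝓘 𝓚 hpc hX hY F ≫ k0 f 𝓘 𝓚 hpc hX hY (cF 𝓚 hX F) ≫ θ.hom = j.pull.map (kf f F) ≫ ρ := by
    refine (j.adj.homEquiv _ _).injective ?_
    refine FRpushCmplLib.hom_ext_basis (O := Y.sheaf) _ _ Y.isBasis_affineOpens fun W hW s => ?_
    rw [j.adj.homEquiv_unit, j.adj.homEquiv_unit]
    show _ = (j.push.map (j.pull.map (kf f F) ≫ ρ)).val.app (op W) ((j.adj.unit.app ((Scheme.Modules.pushforward f).obj F)).val.app (op W) s)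
    refine FRpushLib.towSec_ext (X := ((completionAlong Y 𝓘).X 0).toTopCat) (rG (cφ f 𝓘 𝓚 hpc) (hlocX 𝓚 hX) hY (cF 𝓚 hX F) 0) (rT (cφ f 𝓘 𝓚 hpc) (hlocX 𝓚 hX) hY (cF 𝓚 hX F) 0) (V := pre (completionToX Y 𝓘 0).base W) fun k => ?_
    let η := cη 𝓚 hX F k
    let t := η.val.app (op (pre f.base W)) s
    let x : HU ((toAbS ((completionAlong X 𝓚).Osh hX)).obj (cL 𝓚 hX F k)) 0
        (pre ((cφ f 𝓘 𝓚 hpc : Hom _ _).app 0).base (pre (completionToX Y 𝓘 0).base W)) :=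
      h0.symm ((cL 𝓚 hX F k).val.presheaf.map (homOfLE (pre_eq f 𝓘 𝓚 hpc W).le).op t)
    let y : HU ((toAbS X.sheaf).obj F) 0 (pre f.base W) := h0.symm s
    haveI := FRpushCmplLib.preservesHomology_iX 𝓚 hX
    have hxy : cP f 𝓘 𝓚 hpc hX F 0 k W x = y.comp (Ext.mk₀ ((toAbS X.sheaf).map η)) (add_zero 0) := by
      refine (h0 (F := (toAbS X.sheaf).obj (cQ 𝓚 hX F k)) (U := pre f.base W)).injective ?_
      refine (h0_pushU _ _ _ _ _).trans ((h0_castU _ x).trans ?_)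
      rw [h0_comp, AddEquiv.apply_symm_apply, AddEquiv.apply_symm_apply]
      refine ((cL 𝓚 hX F k).val.presheaf.map_comp_apply _ _ t).symm.trans ?_
      exact (congr($(congrArg (cL 𝓚 hX F k).val.presheaf.map (Subsingleton.elim _ (𝟙 _))) t)).trans
        (congr($((cL 𝓚 hX F k).val.presheaf.map_id _) t))
    have hR : (j.pull.map (kf f F)).val.app (op (pre (completionToX Y 𝓘 0).base W))
        ((j.adj.unit.app ((Scheme.Modules.pushforward f).obj F)).val.app (op W) s) =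
        (j.adj.unit.app ((Coh.Rpush f 0).obj F)).val.app (op W)
          (theta (OX := X.sheaf) (OY := Y.sheaf) f.base ⟨f.c⟩ 0 F W y) := by
      have hn : (kf f F).val.app (op W) s = theta (OX := X.sheaf) (OY := Y.sheaf) f.base ⟨f.c⟩ 0 F W y :=
        ((theta_zero (OX := X.sheaf) (OY := Y.sheaf) f.base ⟨f.c⟩ F W y).trans
          (congrArg _ (AddEquiv.apply_symm_apply _ _))).symm
      refine Eq.trans ?_ (congrArg ((j.adj.unit.app ((Coh.Rpush f 0).obj F)).val.app (op W)) hn)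
      exact congr($(congrArg (fun a : (Scheme.Modules.pushforward f).obj F ⟶ j.push.obj (j.pull.obj ((Coh.Rpush f 0).obj F)) =>
        a.val.app (op W)) (j.adj.unit.naturality (kf f F))) s).symm
    refine Eq.trans ?_ ((congrArg (fun z => (limit.π (Functor.ofOpSequence (X := rG (cφ f 𝓘 𝓚 hpc) (hlocX 𝓚 hX) hY
      (cF 𝓚 hX F) 0) (rT (cφ f 𝓘 𝓚 hpc) (hlocX 𝓚 hX) hY (cF 𝓚 hX F) 0)) (op k)).val.app
        (op (pre (completionToX Y 𝓘 0).base W)) (ρ.val.app (op (pre (completionToX Y 𝓘 0).base W)) z)) hR).trans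
      (hρ W hW k y x hxy)).symm
    refine Eq.trans ?_ (theta_zero _ _ (cL 𝓚 hX F k) (pre (completionToX Y 𝓘 0).base W) x).symm
    let u := (levelMor (completionAlong X 𝓚) hX k).adj.unit.app (cF 𝓚 hX F)
    have e : (k0 f 𝓘 𝓚 hpc hX hY (cF 𝓚 hX F) ≫ θ.hom) ≫
        limit.π (Functor.ofOpSequence (X := rG (cφ f 𝓘 𝓚 hpc) (hlocX 𝓚 hX) hY (cF 𝓚 hX F) 0)
          (rT (cφ f 𝓘 𝓚 hpc) (hlocX 𝓚 hX) hY (cF 𝓚 hX F) 0)) (op k) =
        (pushF (cφ f 𝓘 𝓚 hpc) hX hY).map u ≫ k0 f 𝓘 𝓚 hpc hX hY (cL 𝓚 hX F k) := by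
      rw [Category.assoc, hθ k]
      exact ((homMor (cφ f 𝓘 𝓚 hpc) hX hY).push.toRightDerivedZero.naturality u).symm
    refine (congr($(congrArg (fun a : (pushF (cφ f 𝓘 𝓚 hpc) hX hY).obj (cF 𝓚 hX F) ⟶ _ =>
      a.val.app (op (pre (completionToX Y 𝓘 0).base W))) e) _)).trans ?_
    refine congrArg ((k0 f 𝓘 𝓚 hpc hX hY (cL 𝓚 hX F k)).val.app (op (pre (completionToX Y 𝓘 0).base W))) ?_
    rw [AddEquiv.apply_symm_apply]
    refine (congrArg (u.val.app (op (pre ((cφ f 𝓘 𝓚 hpc : Hom _ _).app 0).base (pre (completionToX Y 𝓘 0).base W))))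
      (bc_unit f 𝓘 𝓚 hpc hX hY F W s)).trans ?_
    exact PresheafOfModules.naturality_apply u.val (homOfLE (pre_eq f 𝓘 𝓚 hpc W).le).op _
  haveI : IsIso (bc f 𝓘 𝓚 hpc hX hY F ≫ k0 f 𝓘 𝓚 hpc hX hY (cF 𝓚 hX F) ≫ θ.hom) := by
    rw [key]
    haveI : IsIso (j.pull.map (kf f F)) := @Functor.map_isIso _ _ _ _ _ _ j.pull (kf f F) hkf
    exact IsIso.comp_isIso
  exact IsIso.of_isIso_comp_right _ (k0 f 𝓘 𝓚 hpc hX hY (cF 𝓚 hX F) ≫ θ.hom)

end FBcIsoLib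

end
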