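import Groth.Agent.FRpushCmplLib.Final

/-!
# Classes of degree zero
-/

set_option autoImplicit false
set_option linter.style.haveILetI false
set_option linter.unusedSectionVars false
set_option maxHeartbeats 800000
set_option synthInstance.maxHeartbeats 80000

universe u

open CategoryTheory CategoryTheory.Limits TopologicalSpace Opposite CategoryTheory.Abelian
open QCohLib (AbSh HU h0 h0_comp)
open FRpushLib (toAbS Res rm pre resOf piOf theta app_injective)
open FRpushCmplLib (pushRes pushZ pushU castU)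

noncomputable section

namespace FBcIsoLib

/-- A class of degree zero of a cocycle is the section it comes from. -/
theorem h0_cls_zero {X : TopCat.{u}} {F : AbSh X} (R : Res F) (U : Opens X) (z : (R.Z 0).obj.obj (op U)) :
    h0 (R.cls U 0 z) = (inv R.aug).hom.app (op U) z := by
  show h0 (((h0 (F := R.Z 0) (U := U)).symm z).comp (Ext.mk₀ (inv R.aug)) (add_zero 0)) = _
  rw [h0_comp, AddEquiv.apply_symm_apply]

theorem h0_castU {X : TopCat.{u}} {G : AbSh X} {U U' : Opens X} (e : U' = U) (x : HU G 0 U') :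
    h0 (castU e x) = G.obj.map (homOfLE e.ge).op (h0 x) := by
  subst e
  exact (congr($(G.obj.map_id (op U')) (h0 x))).symm

/-- The augmentation of a section, on cochains. -/
theorem ι_aug {X : TopCat.{u}} {F : AbSh X} (R : Res F) (U : Opens X) (s : F.obj.obj (op U)) :
    (kernel.ι (R.K.d 0 1)).hom.app (op U) (R.aug.hom.app (op U) s) = R.ι.hom.app (op U) s :=
  congr($(congrArg (fun φ : F ⟶ R.K.X 0 => φ.hom.app (op U)) (kernel.lift_ι (R.K.d 0 1) R.ι R.comp)) s)

theorem cls_aug {X : TopCat.{u}} {F : AbSh X} (R : Res F) (U : Opens X) (s : F.obj.obj (op U)) :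
    h0 (R.cls U 0 (R.aug.hom.app (op U) s)) = s :=
  (h0_cls_zero R U _).trans
    (congr($(congrArg (fun φ : F ⟶ F => φ.hom.app (op U)) (IsIso.hom_inv_id R.aug)) s))

section Theta

variable {X : TopCat.{u}} {OX : Sheaf (Opens.grothendieckTopology X) CommRingCat.{u}}
  {Y : TopCat.{u}} {OY : Sheaf (Opens.grothendieckTopology Y) CommRingCat.{u}} (g : X ⟶ Y)
  (s : OY ⟶ ((Opens.map g).sheafPushforwardContinuous CommRingCat.{u} (Opens.grothendieckTopology Y)
    (Opens.grothendieckTopology X)).obj OX) [HasInjectiveResolutions (ModSite.Mod OX)]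

/-- From the direct image to the zeroth higher direct image. -/
abbrev toR0 (M : ModSite.Mod OX) : (rm g s).push.obj M ⟶ ((rm g s).Rpush 0).obj M :=
  (rm g s).push.toRightDerivedZero.app M

theorem isIso_toR0 (M : ModSite.Mod OX) : IsIso (toR0 g s M) := by
  haveI : PreservesLimitsOfSize.{0, 0} (rm g s).push := (rm g s).adj.rightAdjoint_preservesLimits
  haveI : PreservesFiniteLimits (rm g s).push := PreservesLimitsOfSize.preservesFiniteLimits _
  infer_instance

/-- **In degree zero the classes are the sections.** -/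
theorem theta_zero (M : ModSite.Mod OX) (W : Opens Y) (x : HU ((toAbS OX).obj M) 0 (pre g W)) :
    theta g s 0 M W x = ((toAbS OY).map (toR0 g s M)).hom.app (op W) (h0 (F := (toAbS OX).obj M) (U := pre g W) x) := by
  obtain ⟨σ, rfl⟩ : ∃ σ, (resOf M).cls (pre g W) 0 ((resOf M).aug.hom.app (op (pre g W)) σ) = x :=
    ⟨h0 x, (h0 (F := (toAbS OX).obj M) (U := pre g W)).injective (cls_aug _ _ _)⟩
  rw [cls_aug, FRpushLib.theta_cls]
  let I := injectiveResolution M
  let c : ((toAbS OY).obj ((FRpushCmplLib.pcx g s M).cycles 0)).obj.obj (op W) :=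
    ((toAbS OY).map (I.toRightDerivedZero' (rm g s).push)).hom.app (op W) σ
  have e1 : I.toRightDerivedZero' (rm g s).push ≫ (FRpushCmplLib.pcx g s M).iCycles 0 = (rm g s).push.map (I.ι.f 0) :=
    I.toRightDerivedZero'_comp_iCycles _
  refine (FRpushCmplLib.piOf_eq g s 0 M W c _ ?_).trans ?_
  · refine (congr($(congrArg (fun φ : (rm g s).push.obj M ⟶ (FRpushCmplLib.pcx g s M).X 0 =>
      ((toAbS OY).map φ).hom.app (op W)) e1) σ)).trans ?_
    exact (ι_aug (resOf M) (pre g W) σ).symm
  · have e2 : toR0 g s M = I.toRightDerivedZero' (rm g s).push ≫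
        (FRpushCmplLib.pcx g s M).homologyπ 0 ≫ (I.isoRightDerivedObj (rm g s).push 0).inv :=
      I.toRightDerivedZero_eq (rm g s).push
    exact (congr($(congrArg (fun φ : (rm g s).push.obj M ⟶ ((rm g s).Rpush 0).obj M =>
      ((toAbS OY).map φ).hom.app (op W)) e2) σ)).symm

end Theta

section Push

variable {Z X : TopCat.{u}} {OZ : Sheaf (Opens.grothendieckTopology Z) CommRingCat.{u}}
  {OX : Sheaf (Opens.grothendieckTopology X) CommRingCat.{u}} (gi : Z ⟶ X)
  (si : OX ⟶ ((Opens.map gi).sheafPushforwardContinuous CommRingCat.{u} (Opens.grothendieckTopology X)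
    (Opens.grothendieckTopology Z)).obj OZ)
  [(rm gi si).push.PreservesHomology] [HasInjectiveResolutions (ModSite.Mod OZ)] (M : ModSite.Mod OZ)

/-- In degree zero, classes are moved as sections. -/
theorem h0_pushU (V : Opens X) (x : HU ((toAbS OZ).obj M) 0 (pre gi V)) :
    h0 (pushU gi si M 0 V x) = h0 (F := (toAbS OZ).obj M) (U := pre gi V) x := by
  obtain ⟨σ, rfl⟩ : ∃ σ, (resOf M).cls (pre gi V) 0 ((resOf M).aug.hom.app (op (pre gi V)) σ) = x :=
    ⟨h0 x, (h0 (F := (toAbS OZ).obj M) (U := pre gi V)).injective (cls_aug _ _ _)⟩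
  rw [FRpushCmplLib.pushU_cls, cls_aug]
  have e : pushZ gi si M 0 V ((resOf M).aug.hom.app (op (pre gi V)) σ) =
      (pushRes gi si M).aug.hom.app (op V) σ :=
    app_injective (kernel.ι ((pushRes gi si M).K.d 0 1)) V
      ((FRpushCmplLib.ι_pushZ gi si M 0 V _).trans ((ι_aug (resOf M) (pre gi V) σ).trans
        (ι_aug (pushRes gi si M) V σ).symm))
  rw [e]
  exact cls_aug (pushRes gi si M) V σ

end Push

end FBcIsoLib

end
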